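import Groth.Agent.H26.HorizGG.Finite
import Groth.Agent.H26.LefAmple.Basic
import Groth.Agent.PnCoh.Finite.HHLin
import Groth.Agent.FFun.PropSupp
import Groth.Agent.Pic13Lib.SqZeroPic
import Groth.Agent.AmpleX.QAGenerated
import Groth.Agent.InvX.GenLocusPull
import Groth.Agent.S1664
import Groth.Agent.H28.PBAtlas
import Groth.Agent.H23.InvStalk
import Groth.Agent.H23.PicInv
import Groth.Agent.H23.Chern.Dual
import Groth.Agent.H23.MultiP1.Basic
import Groth.Agent.Nakai.Section
import Groth.Agent.SeesawX.Crit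
import Groth.Agent.SeesawX.Basic
import Groth.Agent.DecShLib.Sect
import Groth.Agent.H26.LefPic.Main

/-!
# Twists by a divisor which is affine are eventually globally generated
-/

noncomputable section

set_option autoImplicit false
set_option linter.style.haveILetI false
set_option backward.isDefEq.respectTransparency false
set_option backward.isDefEq.respectTransparency.types false

universe u

open CategoryTheory CategoryTheory.Limits AlgebraicGeometry TopologicalSpace Opposite
open Groth.Agent.H23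
open Groth.Agent.PnCoh.Finite (mapLin)

namespace Groth.Agent.H26.HorizGG

open Groth.Agent

variable {X : Scheme.{u}}

theorem surjective_H_of_subsingleton {S : ShortComplex X.Modules} (hS : S.ShortExact) (i : ℕ)
    (h : Subsingleton (Coh.HH X S.X₃ i)) :
    Function.Surjective (Sheaf.H.map ((SheafOfModules.toSheaf X.ringCatSheaf).map S.f) i) := by
  have hS' := QCoh.toAb_shortExact hS
  intro x
  obtain ⟨y, hy⟩ := Abelian.Ext.covariant_sequence_exact₂ _ hS' x (@Subsingleton.elim _ h _ _)
  exact ⟨y, hy⟩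

theorem exists_lift_of_injective {S : ShortComplex X.Modules} (hS : S.ShortExact)
    (h : Function.Injective (Sheaf.H.map ((SheafOfModules.toSheaf X.ringCatSheaf).map S.f) 1))
    (a : Coh.structureModule X ⟶ S.X₃) : ∃ b, b ≫ S.g = a := by
  let T := S.map (QCoh.toAbFunctor X)
  have hT : T.ShortExact := QCoh.toAb_shortExact hS
  let q := (Sheaf.H.equiv₀ T.X₃ isTerminalTop).symm (a.app ⊤ (1 : Γ(X, ⊤)))
  obtain ⟨y, hy⟩ := Abelian.Ext.covariant_sequence_exact₃ _ hT q (zero_add 1) (h (by
    show Abelian.Ext.comp (Abelian.Ext.comp q hT.extClass (zero_add 1)) (Abelian.Ext.mk₀ T.f) (add_zero 1) =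
      Abelian.Ext.comp 0 (Abelian.Ext.mk₀ T.f) (add_zero 1)
    rw [Abelian.Ext.comp_assoc_of_third_deg_zero, ShortComplex.ShortExact.extClass_comp, Abelian.Ext.comp_zero,
      Abelian.Ext.zero_comp]))
  refine ⟨QCoh.homOfTop (Sheaf.H.equiv₀ T.X₂ isTerminalTop y), LefIdem.hom_ext_one _ _ ?_⟩
  show S.g.app ⊤ ((QCoh.homOfTop _).app ⊤ (1 : Γ(X, ⊤))) = _
  rw [LefIdem.app_homOfTop]
  refine (Sheaf.H.equiv₀_naturality isTerminalTop T.g y).trans ?_
  exact (congrArg _ hy).trans ((Sheaf.H.equiv₀ T.X₃ isTerminalTop).apply_symm_apply _)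

theorem isGloballyGenerated_of_generators {M : X.Modules}
    (h : ∀ x : X, ∃ s : Coh.structureModule X ⟶ M, x ∈ CohB1.genLocus M s) : Curv2.IsGloballyGenerated M := by
  refine ⟨Coh.structureModule X ⟶ M, Sigma.desc fun s : Coh.structureModule X ⟶ M => s, ?_⟩
  refine H28.PBAtlas.epi_of_restrict _ fun x => ?_
  obtain ⟨s, hx⟩ := h x
  let V := CohB1.genLocus M s
  refine ⟨V, hx, ?_⟩
  haveI : IsIso ((Scheme.Modules.restrictFunctor V.ι).map s) :=
    (InvX.isIso_restrict_iff s _).2 (AmpleX.res_genLocus_frame s)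
  haveI : IsIso ((Scheme.Modules.pullback V.ι).map s) :=
    (NatIso.isIso_map_iff (Scheme.Modules.restrictFunctorIsoPullback V.ι) s).1 inferInstance
  exact epi_of_epi_fac ((Functor.map_comp _ _ _).symm.trans (congrArg (Scheme.Modules.pullback V.ι).map
    (Sigma.ι_desc (fun s : Coh.structureModule X ⟶ M => s) s)))

/-- `L^m → L^(m+1) → (L^(m+1))|_D`. -/
theorem exists_twistSeq {D : Scheme.{u}} (d : D ⟶ X) [IsClosedImmersion d] {L : X.Modules}
    (hLi : PicF.IsInvertible L) (hL : ClSub.IsInverseOf L (ClSub.idealMod d.ker)) (m : ℕ) :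
    ∃ (f : CohB1.tensorPow L m ⟶ CohB1.tensorPow L (m + 1)) (M : D.Modules)
      (g : CohB1.tensorPow L (m + 1) ⟶ (Scheme.Modules.pushforward d).obj M) (w : f ≫ g = 0),
      PicF.IsInvertible M ∧ (ShortComplex.mk f g w).ShortExact := by
  letI := PicMul.clMonoid X
  have hP : PicF.IsInvertible (CohB1.tensorPow L (m + 1)) := PicMul.isInvertible_tensorPow hLi (m + 1)
  let F := CohB1.tensorPow L (m + 1)
  let T := DCoh.tensorBi.obj F
  haveI : T.IsEquivalence := Chern.isEquivalence_ten hP
  have hS := (LefAmple.idealSES_shortExact d.ker).map_of_exact T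
  obtain ⟨e1⟩ : Nonempty (CohB1.tensorPow L m ≅ T.obj (ClSub.idealMod d.ker)) := PicMul.cl_eq_iff.1 (by
    show PicF.cl (CohB1.tensorPow L m) = PicF.cl (CohB1.tensorMod F (ClSub.idealMod d.ker))
    have hLI : PicF.cl L * PicF.cl (ClSub.idealMod d.ker) = 1 := PicMul.cl_eq_iff.2 hL
    rw [PicMul.cl_tensor, PicMul.cl_tensorPow, PicMul.cl_tensorPow, pow_succ, mul_assoc, hLI, mul_one])
  let e2 : T.obj (Coh.structureModule X) ≅ F := KFlatLib.tensorUnitIso F
  obtain ⟨eq⟩ := DivisorExt.nonempty_quotMod_iso d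
  haveI := KFlatLib.isIso_projMod_of_isClosedImmersion d (Coh.structureModule D) F
  let M := (DCoh.tensorBi.obj (Coh.structureModule D)).obj ((Scheme.Modules.pullback d).obj F)
  let e3 : T.obj (ClSub.quotMod d.ker) ≅ (Scheme.Modules.pushforward d).obj M :=
    T.mapIso eq ≪≫ (PicMul.comm F _).some ≪≫ asIso (KFlatLib.projMod d (Coh.structureModule D) F)
  refine ⟨e1.hom ≫ T.map (ClSub.idealModι d.ker) ≫ e2.hom, M,
    e2.inv ≫ T.map (ClSub.toSubscheme d.ker) ≫ e3.hom, ?_,
    PicMul.isInvertible_tensor InvStalk.isInvertible_structureModule (PicClLib.isInvertible_pullback _ hP), ?_⟩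
  · simp only [Category.assoc, Iso.hom_inv_id_assoc, ← Functor.map_comp_assoc]
    rw [show ClSub.idealModι d.ker ≫ ClSub.toSubscheme d.ker = 0 from kernel.condition _, T.map_zero, zero_comp,
      comp_zero]
  · exact ShortComplex.shortExact_of_iso (ShortComplex.isoMk e1.symm e2 e3
      (by simp [LefAmple.idealSES]) (by simp [LefAmple.idealSES])) hS

/-- Lifted generators generate along the divisor. -/
theorem exists_generator_on_divisor {D : Scheme.{u}} [IsAffine D] (d : D ⟶ X) [IsClosedImmersion d]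
    {P : X.Modules} (hP : PicF.IsInvertible P) {M : D.Modules} (hM : PicF.IsInvertible M)
    (g : P ⟶ (Scheme.Modules.pushforward d).obj M) [Epi g]
    (hlift : ∀ a : Coh.structureModule X ⟶ (Scheme.Modules.pushforward d).obj M, ∃ b, b ≫ g = a) (p : D) :
    ∃ s : Coh.structureModule X ⟶ P, d.base p ∈ CohB1.genLocus P s := by
  obtain ⟨α, hα⟩ := S1664.GenSec.exists_mem_genLocus hM
    (AmpleX.isGloballyGenerated_of_isQuasiAffine (QCoh.isQCoh_of_isFinLocFree
      (fun x => (SeesawX.isFinLocFreeOfRank_one hM x).elim fun V h => ⟨V, 1, h⟩ : FlatMod.IsFinLocFree M))) p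
  let adj := Scheme.Modules.pullbackPushforwardAdjunction d
  let e : Coh.structureModule D ≅ (Scheme.Modules.pullback d).obj (Coh.structureModule X) := (LefFEt.uIso d).symm
  obtain ⟨b, hb⟩ := hlift (adj.homEquiv _ _ (e.inv ≫ α))
  let g' := (adj.homEquiv P M).symm g
  haveI : Epi ((Scheme.Modules.pullbackPushforwardAdjunction d).homEquiv P M g') := by
    rw [show (adj.homEquiv P M g') = g from Equiv.apply_symm_apply _ _]; infer_instance
  haveI : Epi g' := LefPic.epi_of_epi_homEquiv d g'
  haveI : IsIso g' := SeesawX.isIso_of_epi_rank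
    (SeesawX.isFinLocFreeOfRank_one (PicClLib.isInvertible_pullback _ hP))
    (SeesawX.isFinLocFreeOfRank_one hM) g'
  have h1 : (Scheme.Modules.pullback d).map b ≫ g' = e.inv ≫ α := by
    rw [← Adjunction.homEquiv_naturality_left_symm, hb, Equiv.symm_apply_apply]
  have h2 : e.hom ≫ (Scheme.Modules.pullback d).map b = α ≫ (asIso g').symm.hom := by
    show _ = α ≫ inv g'
    rw [IsIso.eq_comp_inv, Category.assoc, h1, Iso.hom_inv_id_assoc]
  refine ⟨b, ?_⟩
  have h3 : p ∈ d ⁻¹ᵁ CohB1.genLocus P b := by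
    rw [← InvX.genLocus_pullback d hP b e, h2, InvX.genLocus_comp_iso]
    exact hα
  exact h3

variable (A : Type u) [CommRing A] [IsNoetherianRing A] [X.Over (Spec (CommRingCat.of A))]

include A in
/-- If the divisor is affine, the higher twists are globally generated. -/
theorem exists_generated [IsProper (X ↘ Spec (CommRingCat.of A))] {D : Scheme.{u}} [IsAffine D] (d : D ⟶ X)
    [IsClosedImmersion d] {L : X.Modules} (hLi : PicF.IsInvertible L)
    (hL : ClSub.IsInverseOf L (ClSub.idealMod d.ker)) :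
    ∃ m₀ : ℕ, 1 ≤ m₀ ∧ ∀ m : ℕ, m₀ ≤ m → Curv2.IsGloballyGenerated (CohB1.tensorPow L m) := by
  haveI : IsLocallyNoetherian X := LocallyOfFiniteType.isLocallyNoetherian (X ↘ Spec (CommRingCat.of A))
  haveI : CompactSpace X := QuasiCompact.compactSpace_of_compactSpace (X ↘ Spec (CommRingCat.of A))
  haveI : IsNoetherian X := {}
  have hq : ∀ m, Coh.IsCoh (CohB1.tensorPow L m) := fun m =>
    CurveDeg.isCoh_of_isInvertible (PicMul.isInvertible_tensorPow hLi m)
  have hproper : ClSub.IsProperOver (X ↘ Spec (CommRingCat.of A)) (Set.univ : Set X) :=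
    ⟨isClosed_univ, inferInstance⟩
  haveI := fun m => FFun.finite_HH_of_properSupport A hproper (hq m) (Set.subset_univ _) 1
  choose f M g w hMi hses using fun m => exists_twistSeq d hLi hL m
  have hvan : ∀ m, Subsingleton (Coh.HH X ((Scheme.Modules.pushforward d).obj (M m)) 1) := fun m => by
    have hMq : Coh.IsQCoh (M m) := QCoh.isQCoh_of_isFinLocFree
      (fun x => (SeesawX.isFinLocFreeOfRank_one (hMi m) x).elim fun V h => ⟨V, 1, h⟩ : FlatMod.IsFinLocFree (M m))
    obtain ⟨eq⟩ := QCoh.HH_push_of_isAffineHom d hMq 1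
    haveI : Subsingleton (Coh.HH D (M m) 1) := QCoh.subsingleton_HH_of_isAffine hMq 0
    exact eq.symm.toEquiv.subsingleton
  have hsurj : ∀ m, Function.Surjective (mapLin A (f m) 1) := fun m =>
    surjective_H_of_subsingleton (hses m) 1 (hvan m)
  let G : ∀ k, Coh.HH X (CohB1.tensorPow L 1) 1 →ₗ[A] Coh.HH X (CohB1.tensorPow L (k + 1)) 1 := fun k =>
    Nat.rec LinearMap.id (fun k acc => (mapLin A (f (k + 1)) 1).comp acc) k
  have hG : ∀ k, Function.Surjective (G k) := by
    intro k
    induction k with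
    | zero => exact Function.surjective_id
    | succ k ih => exact (hsurj (k + 1)).comp ih
  let K : ℕ →o Submodule A (Coh.HH X (CohB1.tensorPow L 1) 1) := ⟨fun k => LinearMap.ker (G k),
    monotone_nat_of_le_succ fun k x hx => by
      rw [LinearMap.mem_ker] at hx ⊢
      show mapLin A (f (k + 1)) 1 (G k x) = 0
      rw [hx, map_zero]⟩
  obtain ⟨N, hN⟩ := monotone_stabilizes_iff_noetherian.2 (inferInstance : IsNoetherian A
    (Coh.HH X (CohB1.tensorPow L 1) 1)) K
  have hinj : ∀ m, N + 1 ≤ m → Function.Injective (mapLin A (f m) 1) := by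
    intro m hm
    obtain ⟨k, rfl⟩ : ∃ k, m = k + 1 := ⟨m - 1, by omega⟩
    refine (injective_iff_map_eq_zero _).2 fun y hy => ?_
    obtain ⟨x, rfl⟩ := hG k y
    have hx : x ∈ K (k + 1) := hy
    rw [← hN (k + 1) (by omega), hN k (by omega)] at hx
    exact hx
  refine ⟨N + 2, by omega, fun m hm => ?_⟩
  obtain ⟨k, rfl⟩ : ∃ k, m = k + 1 := ⟨m - 1, by omega⟩
  refine isGloballyGenerated_of_generators fun x => ?_
  have hP : PicF.IsInvertible (CohB1.tensorPow L (k + 1)) := PicMul.isInvertible_tensorPow hLi (k + 1)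
  by_cases hx : x ∈ Set.range d.base
  · obtain ⟨p, rfl⟩ := hx
    haveI : Epi (g k) := (hses k).epi_g
    exact exists_generator_on_divisor d hP (hMi k) (g k)
      (fun a => exists_lift_of_injective (hses k) (hinj k (by omega)) a) p
  · obtain ⟨w0⟩ := hL
    let ru : (DCoh.tensorBi.obj L).obj (Coh.structureModule X) ≅ L := KFlatLib.tensorUnitIso L
    let s : Coh.structureModule X ⟶ L :=
      w0.inv ≫ (DCoh.tensorBi.obj L).map (ClSub.idealModι d.ker) ≫ ru.hom
    obtain ⟨e⟩ := InvStalk.exists_stalk_equiv hLi x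
    have h1 : Function.Surjective ((DerSch.stalkFunctor X x).map (ClSub.idealModι d.ker)) := by
      have hxk : x ∉ d.ker.support := fun h => hx (by
        have h' : x ∈ (d.ker.support : Set X) := h
        rwa [Scheme.Hom.support_ker, d.isClosedEmbedding.isClosed_range.closure_eq] at h')
      have hz := ParShLib.subsingleton_stalk_quotMod d.ker hxk
      intro y
      obtain ⟨z, hz'⟩ := (ShortComplex.moduleCat_exact_iff _).1
        (((LefAmple.idealSES_shortExact d.ker).exact).map (DerSch.stalkFunctor X x)) y (@Subsingleton.elim _ hz _ _)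
      exact ⟨z, hz'⟩
    have hs : Function.Surjective ((DerSch.stalkFunctor X x).map s) := by
      simp only [s, Functor.map_comp]
      exact (ConcreteCategory.bijective_of_isIso ((DerSch.stalkFunctor _ x).map ru.hom)).2.comp
        (((InvStalk.stalk_tensor_map_surjective_iff _ x e).2 h1).comp
          (ConcreteCategory.bijective_of_isIso ((DerSch.stalkFunctor _ x).map w0.inv)).2)
    exact ⟨InvStalk.powSec s (k + 1),
      LefPic.mem_genLocus_of_surjective hP _ (InvStalk.powSec_surjective hLi s x hs (k + 1))⟩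

end Groth.Agent.H26.HorizGG
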