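import Mathlib.AlgebraicGeometry.ZariskisMainTheorem
import Mathlib.RingTheory.DedekindDomain.Basic
import Groth.Prelude.Def_ClSub2

/-!
# A horizontal divisor on an arithmetic surface is finite over the base
-/

noncomputable section

set_option autoImplicit false
set_option linter.style.haveILetI false

universe u

open CategoryTheory CategoryTheory.Limits AlgebraicGeometry TopologicalSpace

namespace Groth.Agent.H26.HorizGG

/-- A proper scheme without chains of length two over a Dedekind domain which is not a field, all of whose points
specialise from the generic fibre, is affine. -/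
theorem isAffine_of_horizontal {R : Type u} [CommRing R] [IsDedekindDomain R] (hR : ¬ IsField R) {D : Scheme.{u}}
    (g : D ⟶ Spec (CommRingCat.of R)) [IsProper g] 
    (hchain : ∀ a b c : D, a ⤳ b → b ⤳ c → a ≠ b → b ≠ c → False)
    (hhor : ∀ p : D, ∃ q : D, q ⤳ p ∧ (g.base q).asIdeal = ⊥) : IsAffine D := by
  haveI : IsLocallyNoetherian D := LocallyOfFiniteType.isLocallyNoetherian g
  have hclosed : ∀ x : D, (∀ c, x ⤳ c → c = x) → IsClosed ({x} : Set D) := fun x hx => by
    rw [← closure_eq_iff_isClosed]
    refine Set.Subset.antisymm (fun c hc => ?_) subset_closure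
    exact hx c (specializes_iff_mem_closure.2 hc)
  haveI : LocallyQuasiFinite g := by
    refine locallyQuasiFinite_iff_finite_preimage_singleton.2 fun s => ?_
    haveI : CompactSpace D := QuasiCompact.compactSpace_of_compactSpace g
    haveI : IsNoetherian D := {}
    let T : Set D := g.base ⁻¹' {s}
    haveI : NoetherianSpace T := inferInstance
    have hT1 : ∀ x ∈ T, ∀ c ∈ T, x ⤳ c → c = x := by
      intro x hx c hc hxc
      by_contra hne
      obtain ⟨q, hqx, hq⟩ := hhor x
      by_cases hqe : q = x
      · subst hqe
        obtain ⟨m, hm⟩ := Ideal.exists_maximal R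
        let t : Spec (CommRingCat.of R) := ⟨m, hm.isPrime⟩
        have hst : g.base c ⤳ t := by
          rw [show g.base c = g.base q from (Set.mem_singleton_iff.1 hc).trans (Set.mem_singleton_iff.1 hx).symm]
          exact (PrimeSpectrum.le_iff_specializes _ _).1 (show (g.base q).asIdeal ≤ m by rw [hq]; exact bot_le)
        have hmap : t ∈ g.base '' closure {c} := by
          have hcl : IsClosed (g.base '' closure {c}) := g.isClosedMap _ isClosed_closure
          exact hcl.closure_subset_iff.2 (Set.singleton_subset_iff.2 ⟨c, subset_closure rfl, rfl⟩)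
            (specializes_iff_mem_closure.1 hst)
        obtain ⟨p, hp, hpt⟩ := hmap
        refine hchain q c p hxc (specializes_iff_mem_closure.2 hp) (Ne.symm hne) fun hcp => ?_
        have h1 : t.asIdeal = ⊥ := by
          rw [← hpt, ← hcp, show g.base c = g.base q from
            (Set.mem_singleton_iff.1 hc).trans (Set.mem_singleton_iff.1 hx).symm, hq]
        exact Ring.ne_bot_of_isMaximal_of_not_isField hm hR h1
      · exact hchain q x c hqx hxc hqe (Ne.symm hne)
    haveI : T1Space T := ⟨fun x => by
      rw [← closure_eq_iff_isClosed]
      refine Set.Subset.antisymm (fun c hc => ?_) subset_closure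
      have hxc : x ⤳ c := specializes_iff_mem_closure.2 hc
      exact Subtype.ext (hT1 x.1 x.2 c.1 c.2 (hxc.map continuous_subtype_val))⟩
    refine Set.finite_coe_iff.1 (Set.finite_univ_iff.1 ?_)
    rw [← sUnion_irreducibleComponents]
    refine (NoetherianSpace.finite_irreducibleComponents (α := T)).sUnion fun C hC => ?_
    haveI : QuasiSober T := (g.fiberHomeo s).symm.isClosedEmbedding.quasiSober
    obtain ⟨z, hz⟩ := QuasiSober.sober hC.1 (isClosed_of_mem_irreducibleComponents C hC)
    rw [← hz.def, IsClosed.closure_eq isClosed_singleton]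
    exact Set.finite_singleton z
  haveI : IsFinite g := IsFinite.of_isProper_of_locallyQuasiFinite g
  exact isAffine_of_isAffineHom g

/-- A divisor on an integral surface has no chains of length two. -/
theorem no_chain {X D : Scheme.{u}} [IsIntegral X] (hdim : topologicalKrullDim X = 2) (d : D ⟶ X) [IsClosedImmersion d]
    (hη : genericPoint X ∉ Set.range d.base) (a b c : D) (hab : a ⤳ b) (hbc : b ⤳ c) (h1 : a ≠ b) (h2 : b ≠ c) :
    False := by
  let K : X → IrreducibleCloseds X := fun x => ⟨closure {x}, isIrreducible_singleton.closure, isClosed_closure⟩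
  have hlt : ∀ x y : X, x ⤳ y → x ≠ y → K y < K x := fun x y hxy hne => by
    refine lt_of_le_of_ne (specializes_iff_closure_subset.1 hxy) fun he => hne ?_
    exact (inseparable_iff_closure_eq.2 (congrArg (fun Z : IrreducibleCloseds X => (Z : Set X)) he).symm).eq
  have hinj : Function.Injective d.base := d.isClosedEmbedding.injective
  have hA : K (d.base a) < K (genericPoint X) := hlt _ _ (genericPoint_specializes _) fun he => hη ⟨a, he.symm⟩
  have hB : K (d.base b) < K (d.base a) := hlt _ _ (hab.map d.base.hom.continuous) (hinj.ne h1)
  have hC : K (d.base c) < K (d.base b) := hlt _ _ (hbc.map d.base.hom.continuous) (hinj.ne h2)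
  let s : LTSeries (IrreducibleCloseds X) :=
    (((RelSeries.singleton _ (K (genericPoint X))).cons (K (d.base a)) (by simpa using hA)).cons (K (d.base b))
      (by simpa using hB)).cons (K (d.base c)) (by simpa using hC)
  have h := (Order.LTSeries.length_le_krullDim s).trans hdim.le
  have : (s.length : WithBot ℕ∞) = ((3 : ℕ) : WithBot ℕ∞) := rfl
  rw [this] at h
  exact absurd (WithBot.coe_le_coe.1 h) (by norm_num)

end Groth.Agent.H26.HorizGG
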